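import Cfsg.Agent.MonsterCent.Cert

/-!
The fixed sublattice and centralising words for an element of order 7.
-/

set_option autoImplicit false

namespace Cfsg.Agent.MonsterCent.Seven

/-- The data. -/
def data : Data where
  tab := 9759154893309751776970966210612289
  tinv := 605287460260797292456432259911713815
  n := 7
  k := 6
  e := [
    [0, 0, 0, 0, -2, 0, -2, -2, -2, 2, 2, 2, 2, 2, 0, -2, 2, 0, -2, 2, -2, 2, -2, 0],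
    [0, 0, 0, 0, -2, 0, -2, -2, -2, 0, 0, 0, 0, 0, 0, -2, 0, -8, -2, 0, -2, 0, -2, 0],
    [-1, -1, -1, -1, 1, -1, -3, -3, -3, -1, -1, -1, -1, -1, -1, -3, -1, -5, -3, -5, -3, -1, -3, -1],
    [0, 0, 0, 0, 0, 0, -4, -4, -4, 2, 2, 2, 2, 2, 0, -4, 2, -4, -4, 2, -4, 2, -4, 0],
    [-2, -2, -2, -2, -4, -2, -8, -8, -8, 0, 0, 0, 0, 0, -2, -8, 0, -18, -8, -4, -8, 0, -8, -2],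
    [-2, -2, -2, -2, -10, -2, -10, -10, -10, 2, 2, 2, 2, 2, -2, -10, 2, -26, -10, -6, -10, 2, -10, -2]]
  u := [
    [-6, 24, -18, -30, -6, 28, -6, -6, -6, -6, -6, -6, -44, 22, 58, 12, 24, 4, -8, 0, 16, 4, -12, -40],
    [-4, 24, -16, -28, -4, 26, -4, -4, -4, -4, -4, -4, -44, 18, 54, 12, 24, 2, -10, 0, 14, 2, -12, -34],
    [-2, 10, -8, -14, -2, 14, -2, -2, -2, -2, -2, -2, -20, 8, 26, 4, 10, 2, -4, -2, 8, 2, -8, -12],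
    [4, -14, 10, 18, 4, -16, 4, 4, 4, 4, 4, 4, 26, -14, -34, -8, -14, -2, 4, 0, -10, -2, 6, 26],
    [0, 0, 0, 2, 0, -2, 0, 0, 0, 0, 0, 0, -2, 0, -2, 0, 0, 0, 0, 2, -2, 0, 2, -6],
    [1, -7, 5, 7, 1, -7, 1, 1, 1, 1, 1, 1, 15, -5, -15, -3, -7, -1, 3, -1, -3, -1, 3, 13]]
  cofs := [
    [0, 0, -1, 0, -2, -2],
    [0, 0, -1, 0, -2, -2],
    [0, 0, -1, 0, -2, -2],
    [0, 0, -1, 0, -2, -2],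
    [-2, -2, 1, 0, -4, -10],
    [0, 0, -1, 0, -2, -2],
    [-2, -2, -3, -4, -8, -10],
    [-2, -2, -3, -4, -8, -10],
    [-2, -2, -3, -4, -8, -10],
    [2, 0, -1, 2, 0, 2],
    [2, 0, -1, 2, 0, 2],
    [2, 0, -1, 2, 0, 2],
    [2, 0, -1, 2, 0, 2],
    [2, 0, -1, 2, 0, 2],
    [0, 0, -1, 0, -2, -2],
    [-2, -2, -3, -4, -8, -10],
    [2, 0, -1, 2, 0, 2],
    [0, -8, -5, -4, -18, -26],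
    [-2, -2, -3, -4, -8, -10],
    [2, 0, -5, 2, -4, -6],
    [-2, -2, -3, -4, -8, -10],
    [2, 0, -1, 2, 0, 2],
    [-2, -2, -3, -4, -8, -10],
    [0, 0, -1, 0, -2, -2]]
  den := 8
  reps := [
    ([0, 0, 0, 0, 0, 0, 0, 0, 0, 0, 0, 0, 0, 0, 0, 0, 0, 0, 0, 0, 0, 0, 0, 0], 0),
    ([2, -6, 2, 2, 0, 2, 0, 0, 0, 0, 0, 0, 0, 0, 2, 0, 0, 2, 0, 0, 0, 0, 0, 2], 64),
    ([0, 0, 0, 0, 2, 0, -6, 2, 2, 0, 0, 0, 0, 0, 0, 2, 0, 0, 2, 0, 2, 0, 2, 0], 64),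
    ([0, 0, 0, 0, 0, 0, 0, 0, 0, 2, -6, 2, 2, 2, 0, 0, 2, 0, 0, 2, 0, 2, 0, 0], 64),
    ([1, 1, 1, 1, 3, 1, -1, -1, -1, 1, 1, 1, 1, 1, 1, -1, 1, 5, -1, -3, -1, 1, -1, 1], 64),
    ([-1, -1, -1, -1, 3, -1, -1, -1, -1, 1, 1, 1, 1, 1, -1, -1, 1, -5, -1, -3, -1, 1, -1, -1], 64),
    ([1, 1, 1, 1, 5, 1, 1, 1, 1, 1, 1, 1, 1, 1, 1, 1, 1, -3, 1, -3, 1, 1, 1, 1], 64),
    ([-1, -1, -1, -1, 5, -1, 1, 1, 1, 1, 1, 1, 1, 1, -1, 1, 1, 3, 1, -3, 1, 1, 1, -1], 64),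
    ([4, 0, 0, 0, 0, 0, 0, 0, 0, 2, -2, -2, -2, 2, 0, 0, 2, 0, -4, -2, 0, 2, 0, 0], 64),
    ([0, 0, 0, 0, 2, 0, -2, -2, -2, 0, 0, 0, 0, 0, 0, -2, 0, -4, -2, 0, -2, 0, -2, 0], 48),
    ([2, 2, 2, 2, 4, 2, 0, 0, 0, 0, 0, 0, 0, 0, 2, 0, 0, -2, 0, 0, 0, 0, 0, 2], 48),
    ([0, 0, 0, 0, 4, 0, 0, 0, 0, 0, 0, 0, 0, 0, 0, 0, 0, 4, 0, 0, 0, 0, 0, 0], 32),
    ([-1, -1, -1, -1, 1, -1, 1, 1, 1, 1, 1, 1, 1, 1, -1, 1, 1, -1, 1, -3, 1, 1, 1, -1], 32),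
    ([1, 1, 1, 1, 1, 1, 1, 1, 1, 1, 1, 1, 1, 1, 1, 1, 1, 1, 1, 5, 1, 1, 1, 1], 48),
    ([1, 1, 1, 1, 1, 1, 1, 1, 1, -1, -1, -1, -1, -1, 1, 1, -1, 1, 1, -5, 1, -1, 1, 1], 48),
    ([1, 1, 1, 1, -1, 1, -1, -1, -1, 1, 1, 1, 1, 1, 1, -1, 1, 1, -1, -3, -1, 1, -1, 1], 32),
    ([2, 2, 2, 2, 4, 2, 0, 0, 0, 0, 0, 0, 0, 0, 2, 0, 0, 2, 0, -4, 0, 0, 0, 2], 64),
    ([0, 0, 0, 0, 4, 0, 0, 0, 0, 0, 0, 0, 0, 0, 0, 0, 0, 0, 0, 4, 0, 0, 0, 0], 32),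
    ([0, 0, 0, 0, 4, 0, 0, 0, 0, 2, 2, 2, 2, 2, 0, 0, 2, 0, 0, -2, 0, 2, 0, 0], 48),
    ([0, 0, 0, 0, 2, 0, -2, -2, -2, 0, 0, 0, 0, 0, 0, -2, 0, 0, -2, -4, -2, 0, -2, 0], 48),
    ([-1, -1, -1, -1, -1, -1, -1, -1, -1, 1, 1, 1, 1, 1, -1, -1, 1, 3, -1, 1, -1, 1, -1, -1], 32),
    ([1, 1, 1, 1, -1, 1, -1, -1, -1, 1, 1, 1, 1, 1, 1, -1, 1, -3, -1, 1, -1, 1, -1, 1], 32),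
    ([1, 1, 1, 1, -1, 1, -1, -1, -1, -1, -1, -1, -1, -1, 1, -1, -1, 5, -1, -1, -1, -1, -1, 1], 48),
    ([1, 1, 1, 1, 1, 1, 1, 1, 1, 1, 1, 1, 1, 1, 1, 1, 1, 5, 1, 1, 1, 1, 1, 1], 48),
    ([4, 0, 0, 0, -2, 0, 2, 2, -2, 4, 0, 0, 0, 0, 0, -2, 0, 0, 2, 0, -2, 0, 2, 0], 64),
    ([0, 0, 0, 0, 0, 0, 0, 0, 0, 2, 2, 2, 2, 2, 0, 0, 2, -4, 0, -2, 0, 2, 0, 0], 48),
    ([0, 0, 0, 0, 0, 0, 0, 0, 0, 0, 0, 0, 0, 0, 0, 0, 0, 4, 0, -4, 0, 0, 0, 0], 32),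
    ([2, 2, 2, 2, 0, 2, 0, 0, 0, 0, 0, 0, 0, 0, 2, 0, 0, -2, 0, -4, 0, 0, 0, 2], 48),
    ([1, 1, 1, 1, -3, 1, 1, 1, 1, 1, 1, 1, 1, 1, 1, 1, 1, 1, 1, 1, 1, 1, 1, 1], 32),
    ([1, 1, 1, 1, -5, 1, -1, -1, -1, -1, -1, -1, -1, -1, 1, -1, -1, 1, -1, -1, -1, -1, -1, 1], 48),
    ([1, 1, 1, 1, 3, 1, -1, -1, -1, 1, 1, 1, 1, 1, 1, -1, 1, 1, -1, 1, -1, 1, -1, 1], 32),
    ([1, 1, 1, 1, 5, 1, 1, 1, 1, -1, -1, -1, -1, -1, 1, 1, -1, 1, 1, -1, 1, -1, 1, 1], 48),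
    ([8, 0, 0, 0, 0, 0, 0, 0, 0, 0, 0, 0, 0, 0, 0, 0, 0, 0, 0, 0, 0, 0, 0, 0], 64),
    ([2, 2, 2, 2, 0, 2, 0, 0, 0, 0, 0, 0, 0, 0, 2, 0, 0, 2, 0, 0, 0, 0, 0, 2], 32),
    ([0, 0, 0, 0, 2, 0, 2, 2, 2, 0, 0, 0, 0, 0, 0, 2, 0, 0, 2, 0, 2, 0, 2, 0], 32),
    ([0, 0, 0, 0, 0, 0, 0, 0, 0, 2, 2, 2, 2, 2, 0, 0, 2, 0, 0, 2, 0, 2, 0, 0], 32),
    ([1, 1, 1, 1, 3, 1, -1, -1, -1, 1, 1, 1, 1, 1, 1, -1, 1, -3, -1, -3, -1, 1, -1, 1], 48),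
    ([-1, -1, -1, -1, 3, -1, -1, -1, -1, 1, 1, 1, 1, 1, -1, -1, 1, 3, -1, -3, -1, 1, -1, -1], 48),
    ([-1, -1, -1, -1, 3, -1, -1, -1, -1, -1, -1, -1, -1, -1, -1, -1, -1, 3, -1, 3, -1, -1, -1, -1], 48),
    ([1, 1, 1, 1, 3, 1, -1, -1, -1, -1, -1, -1, -1, -1, 1, -1, -1, -3, -1, 3, -1, -1, -1, 1], 48),
    ([4, 0, 0, 0, 0, 0, 0, 0, 0, 2, -2, -2, -2, 2, 0, 0, 2, 0, 4, -2, 0, 2, 0, 0], 64),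
    ([0, 0, 0, 0, 2, 0, -2, -2, -2, 0, 0, 0, 0, 0, 0, -2, 0, 4, -2, 0, -2, 0, -2, 0], 48),
    ([2, 2, 2, 2, -4, 2, 0, 0, 0, 0, 0, 0, 0, 0, 2, 0, 0, -2, 0, 0, 0, 0, 0, 2], 48),
    ([0, 0, 0, 0, 4, 0, 0, 0, 0, 0, 0, 0, 0, 0, 0, 0, 0, -4, 0, 0, 0, 0, 0, 0], 32),
    ([1, 1, 1, 1, -1, 1, -1, -1, -1, -1, -1, -1, -1, -1, 1, -1, -1, 1, -1, -5, -1, -1, -1, 1], 48),
    ([1, 1, 1, 1, 1, 1, 1, 1, 1, 1, 1, 1, 1, 1, 1, 1, 1, 1, 1, -3, 1, 1, 1, 1], 32),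
    ([-1, -1, -1, -1, -1, -1, -1, -1, -1, 1, 1, 1, 1, 1, -1, -1, 1, -1, -1, -3, -1, 1, -1, -1], 32),
    ([1, 1, 1, 1, -1, 1, -1, -1, -1, 1, 1, 1, 1, 1, 1, -1, 1, 1, -1, 5, -1, 1, -1, 1], 48),
    ([2, 2, 2, 2, 4, 2, 0, 0, 0, 0, 0, 0, 0, 0, 2, 0, 0, 2, 0, 4, 0, 0, 0, 2], 64),
    ([0, 0, 0, 0, 4, 0, 0, 0, 0, 0, 0, 0, 0, 0, 0, 0, 0, 0, 0, -4, 0, 0, 0, 0], 32),
    ([0, 0, 0, 0, 4, 0, 0, 0, 0, -2, -2, -2, -2, -2, 0, 0, -2, 0, 0, 2, 0, -2, 0, 0], 48),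
    ([0, 0, 0, 0, 2, 0, -2, -2, -2, 0, 0, 0, 0, 0, 0, -2, 0, 0, -2, 4, -2, 0, -2, 0], 48),
    ([1, 1, 1, 1, 1, 1, 1, 1, 1, -1, -1, -1, -1, -1, 1, 1, -1, 5, 1, -1, 1, -1, 1, 1], 48),
    ([1, 1, 1, 1, -1, 1, -1, -1, -1, 1, 1, 1, 1, 1, 1, -1, 1, 5, -1, 1, -1, 1, -1, 1], 48),
    ([-1, -1, -1, -1, 1, -1, 1, 1, 1, 1, 1, 1, 1, 1, -1, 1, 1, 3, 1, 1, 1, 1, 1, -1], 32),
    ([1, 1, 1, 1, 1, 1, 1, 1, 1, 1, 1, 1, 1, 1, 1, 1, 1, -3, 1, 1, 1, 1, 1, 1], 32),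
    ([4, 0, 0, 0, -2, 0, 2, 2, -2, -4, 0, 0, 0, 0, 0, -2, 0, 0, 2, 0, -2, 0, 2, 0], 64),
    ([0, 0, 0, 0, 0, 0, 0, 0, 0, 2, 2, 2, 2, 2, 0, 0, 2, 4, 0, -2, 0, 2, 0, 0], 48),
    ([0, 0, 0, 0, 0, 0, 0, 0, 0, 0, 0, 0, 0, 0, 0, 0, 0, 4, 0, 4, 0, 0, 0, 0], 32),
    ([2, 2, 2, 2, 0, 2, 0, 0, 0, 0, 0, 0, 0, 0, 2, 0, 0, -2, 0, 4, 0, 0, 0, 2], 48),
    ([1, 1, 1, 1, 5, 1, 1, 1, 1, 1, 1, 1, 1, 1, 1, 1, 1, 1, 1, 1, 1, 1, 1, 1], 48),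
    ([-1, -1, -1, -1, -3, -1, 1, 1, 1, 1, 1, 1, 1, 1, -1, 1, 1, -1, 1, 1, 1, 1, 1, -1], 32),
    ([1, 1, 1, 1, -5, 1, -1, -1, -1, 1, 1, 1, 1, 1, 1, -1, 1, 1, -1, 1, -1, 1, -1, 1], 48),
    ([-1, -1, -1, -1, 3, -1, -1, -1, -1, 1, 1, 1, 1, 1, -1, -1, 1, -1, -1, 1, -1, 1, -1, -1], 32)]

/-- Centralising words with their columns. -/
def raw : List (List ℕ × List ℕ) := [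
  ([], [1, 2, 4, 8, 16, 32]),
  ([163, 7, 2, 105, 41, 191, 66, 83, 91, 163, 105, 176, 176, 191, 147, 135], [2, 1, 7, 8, 56, 32]),
  ([66, 49, 7, 135, 66, 105, 83, 191, 135, 105, 176, 163, 147, 481, 0, 2, 0, 1, 0, 104, 1, 104, 2, 193], [3, 5, 4, 24, 8, 40])]

/-- Words in these for the standard generators. -/
def words : List (List ℕ) := [
  [2, 1, 2, 1, 2, 2, 1, 2, 2],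
  [2, 2, 1, 2],
  [1, 2, 1, 2, 1, 2, 2, 1, 2, 1, 2, 1],
  [1, 2, 2, 1, 2, 1],
  [1, 2, 2, 1, 2, 2, 1, 2, 1, 2, 1],
  [1, 2, 1, 2, 2, 1, 2, 1, 2, 1, 2, 2, 1, 2]]

/-- A word inverting the element. -/
def flipWord : List ℕ := [105, 66, 56, 135, 83, 191, 147, 105, 176, 135, 1428, 0, 104, 292, 0, 1, 104, 193]

end Cfsg.Agent.MonsterCent.Seven
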