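import Cfsg.Agent.MonsterCent.Cert

/-!
The fixed sublattice and centralising words for an element of order 3 fixing six points, with a
linear bijection of the fixed classes onto the Hermitian space of dimension six.
-/

set_option autoImplicit false
set_option maxRecDepth 100000

namespace Cfsg.Agent.MonsterCent.ThreeSix

/-- The data. -/
def data : Data where
  tab := 9438197900198597395393065446969057
  tinv := 55341284427829104842479728421049367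
  n := 3
  k := 12
  e := [
    [0, 0, 0, 0, 0, 0, -2, 0, -2, 0, 0, 2, 0, 0, -2, 2, 0, -2, 0, 0, -2, -2, 0, 0],
    [1, 1, -1, -1, -1, -1, -3, -1, -1, -1, -1, 1, -1, -1, 1, 1, 1, -1, -1, -1, -1, -1, -1, 1],
    [-1, -1, 1, 1, -1, 1, 3, -1, -1, -1, -1, -1, -1, 1, 1, 1, -1, -1, 1, 1, -1, -1, -1, -1],
    [-1, -1, -1, -1, -1, -1, 1, 1, -1, -1, 1, -1, -1, -1, 1, -3, 1, 1, -1, -1, -1, -1, 1, -1],
    [0, 0, 0, 0, 0, 0, -2, 0, -2, 0, 0, 2, 0, 0, 2, -2, 0, -2, 0, 0, -2, -2, 0, 0],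
    [1, 1, -1, -1, 1, -1, 1, -1, -1, 1, -1, -1, 1, -1, 3, -1, -1, 1, -1, -1, -1, -1, -1, 1],
    [-1, -1, 1, 1, -1, 1, 3, 1, -1, -1, 1, 1, -1, -1, 1, -1, -1, -1, -1, -1, -1, -1, 1, -1],
    [0, 0, 0, 0, 0, 0, 2, 0, 0, 0, 0, -2, 0, 2, 2, 0, 2, -2, 2, 2, 0, 0, 0, 0],
    [1, 1, 1, 1, -1, 1, 1, 1, -1, -1, 1, 3, -1, -1, -1, 1, 1, -1, -1, -1, -1, -1, 1, 1],
    [1, 1, -1, -1, -1, -1, -1, 1, -1, -1, 1, 1, -1, -1, -1, -1, -1, -3, -1, -1, -1, -1, 1, 1],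
    [0, 0, 0, 0, 2, 0, 0, 0, 0, 2, 0, -2, 2, 0, -2, 2, -2, -2, 0, 0, 0, 0, 0, 0],
    [-1, -1, -1, -1, -1, -1, -1, -1, -1, -1, -1, -1, -1, -1, -1, -1, 3, -1, -1, -1, -1, -1, -1, -1]]
  u := [
    [-32, 36, -10, -2, -2, 4, 2, 2, -2, 2, -2, 4, 2, 4, 0, 2, 0, 0, -2, 0, 0, 2, 0, -8],
    [6, -8, 6, -2, -4, -2, -2, -2, -2, -2, 4, -2, 4, -2, 2, 2, 0, 0, -2, 2, 2, 0, 0, 2],
    [23, -23, 9, 1, -1, -5, -1, -1, 1, -3, -1, -3, 1, -3, -1, -1, -1, 1, 1, 3, -3, -1, 1, 3],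
    [26, -26, 8, 4, -4, -8, -2, -2, 0, -2, -2, -4, 4, -6, 0, 0, 0, 2, 2, 4, -2, -2, 8, 2],
    [16, -14, 8, 0, 2, -2, -2, -2, -2, -4, 0, -2, 2, 2, 0, -2, 0, 0, 0, -2, 0, 0, 2, 0],
    [-10, 8, -4, -2, 2, 2, 2, 2, 2, 4, 0, 2, -4, -2, 0, 0, 0, 0, 0, 2, 0, -2, -4, 2],
    [-30, 26, -4, -8, 2, 6, 2, 2, -2, 2, 2, 4, -2, 0, 2, 2, 0, -2, -2, 0, 4, 2, -4, -2],
    [-5, 7, -5, 1, 1, 1, 1, 1, 1, 1, 1, 1, -1, 1, 1, 1, 1, -1, 1, -1, -1, 1, -1, -3],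
    [27, -27, 11, 3, -1, -7, -1, -1, 1, -3, 1, -3, 3, -5, -1, -1, 1, 1, 3, 1, -1, -3, 1, 5],
    [-3, 7, -3, -1, 3, 1, 1, 1, -1, -1, -1, 1, -3, 1, -1, -1, -1, -1, 1, -1, 1, 1, -1, -3],
    [30, -30, 8, 4, 0, -6, -2, -2, 2, -2, 0, -4, 2, -2, 0, 0, 0, 0, -2, 2, 0, -4, 4, 2],
    [-3, 3, -3, 1, 3, 1, 1, 1, 1, 1, -3, 1, -3, 1, -1, -1, 1, -1, 1, -3, -1, 1, -1, -1]]
  cofs := [
    [0, 1, -1, -1, 0, 1, -1, 0, 1, 1, 0, -1],
    [0, 1, -1, -1, 0, 1, -1, 0, 1, 1, 0, -1],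
    [0, -1, 1, -1, 0, -1, 1, 0, 1, -1, 0, -1],
    [0, -1, 1, -1, 0, -1, 1, 0, 1, -1, 0, -1],
    [0, -1, -1, -1, 0, 1, -1, 0, -1, -1, 2, -1],
    [0, -1, 1, -1, 0, -1, 1, 0, 1, -1, 0, -1],
    [-2, -3, 3, 1, -2, 1, 3, 2, 1, -1, 0, -1],
    [0, -1, -1, 1, 0, -1, 1, 0, 1, 1, 0, -1],
    [-2, -1, -1, -1, -2, -1, -1, 0, -1, -1, 0, -1],
    [0, -1, -1, -1, 0, 1, -1, 0, -1, -1, 2, -1],
    [0, -1, -1, 1, 0, -1, 1, 0, 1, 1, 0, -1],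
    [2, 1, -1, -1, 2, -1, 1, -2, 3, 1, -2, -1],
    [0, -1, -1, -1, 0, 1, -1, 0, -1, -1, 2, -1],
    [0, -1, 1, -1, 0, -1, -1, 2, -1, -1, 0, -1],
    [-2, 1, 1, 1, 2, 3, 1, 2, -1, -1, -2, -1],
    [2, 1, 1, -3, -2, -1, -1, 0, 1, -1, 2, -1],
    [0, 1, -1, 1, 0, -1, -1, 2, 1, -1, -2, 3],
    [-2, -1, -1, 1, -2, 1, -1, -2, -1, -3, -2, -1],
    [0, -1, 1, -1, 0, -1, -1, 2, -1, -1, 0, -1],
    [0, -1, 1, -1, 0, -1, -1, 2, -1, -1, 0, -1],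
    [-2, -1, -1, -1, -2, -1, -1, 0, -1, -1, 0, -1],
    [-2, -1, -1, -1, -2, -1, -1, 0, -1, -1, 0, -1],
    [0, -1, -1, 1, 0, -1, 1, 0, 1, 1, 0, -1],
    [0, 1, -1, -1, 0, 1, -1, 0, 1, 1, 0, -1]]
  den := 8
  reps := []

/-- Centralising words with their columns. -/
def raw : List (List ℕ × List ℕ) := [
  ([56, 7, 2, 7, 7, 105, 66, 135, 83, 163, 176, 105, 176, 176, 0, 7, 1, 2, 49, 7, 105, 66, 56, 118, 91, 83, 135, 176, 105, 176, 176, 163, 147, 135], [1633, 1578, 3895, 8, 1835, 1811, 64, 4019, 1651, 919, 676, 2048]),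
  ([56, 1, 1, 2, 41, 66, 83, 91, 176, 105, 105, 191, 135], [4095, 407, 1297, 1084, 1708, 2075, 1330, 3625, 1526, 1032, 417, 322]),
  ([41, 7, 2, 135, 7, 147, 56, 56, 91, 91, 83, 176, 105, 176, 176, 163, 135], [3329, 407, 2013, 1055, 824, 2058, 2046, 3594, 1835, 1067, 1754, 339]),
  ([195], [414, 1281, 1176, 2203, 2571, 1212, 2380, 1803, 1027, 3352, 1439, 268])]

/-- Words in these for the generators of the semilinear cover. -/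
def words : List (List ℕ) := [
    [0, 1, 0, 1, 0, 2, 0, 1, 2, 0, 2, 3, 1, 0, 2],
    [3, 2, 0, 2, 1, 3, 0, 2, 0, 2, 3, 0, 1],
    [2, 2, 1, 3, 2, 0, 3, 1, 2, 0, 2],
    [3, 1, 2, 2, 1, 0, 2, 3, 2, 2, 0, 1, 2],
    [0, 3, 0, 2, 0, 1, 0, 2, 2, 0, 2, 0],
    [0, 3, 1, 0, 1, 2, 2, 1, 1, 3, 0, 1, 0, 3],
    [0, 3, 2, 0, 3, 1, 1, 2, 2, 0, 1, 2, 0, 2],
    [3, 2, 3, 2, 0, 2, 3, 2, 1, 0, 3, 2],
    [2, 0, 3, 0, 2, 2, 0, 2, 2, 0],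
    [2, 2, 3, 1, 2, 3, 1, 0, 2, 0, 3, 2, 1, 2],
    [1, 3, 0, 1, 2, 3, 0, 3, 1, 0, 2, 2, 2, 3]]

/-- The columns of the words. -/
def tcols : List (List ℕ) := [
    [3, 1, 1433, 64, 17, 1526, 1501, 1365, 1180, 513, 471, 2121],
    [72, 1493, 332, 1032, 1297, 32, 407, 286, 415, 840, 1352, 3543],
    [1, 2, 4023, 76, 2933, 32, 4, 196, 1353, 3507, 1183, 2048],
    [1, 2, 417, 3713, 3115, 32, 3785, 919, 256, 3643, 1024, 169],
    [1, 2, 3967, 3955, 1357, 687, 3899, 1501, 256, 1464, 1024, 3383],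
    [256, 1027, 4, 1501, 1041, 245, 321, 341, 257, 768, 1493, 3540],
    [3688, 2736, 4023, 1235, 2722, 32, 3625, 128, 1, 3507, 1243, 690],
    [1, 2, 1452, 2308, 2571, 32, 2380, 919, 3455, 3507, 3543, 268],
    [1, 2, 4, 1264, 2047, 3540, 1208, 919, 256, 4041, 1024, 268],
    [2057, 3, 4, 2614, 2073, 1524, 2120, 694, 2313, 2569, 469, 2615],
    [1, 2, 1235, 3938, 2614, 684, 3881, 1485, 257, 3312, 213, 171]]

/-- The packed columns of the words with their composites with the bijection. -/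
def tcodes : List (ℕ × ℕ) := [
  (0x8491d720149c5555dd5f6011040599001003, 0x304038f7b012ba65a9c03b5b5af57900500e),
  (0xdd754834819f11e19702051140814c5d5048, 0x30c024f66031b9d597c02b7659a56700f009),
  (0x80049fdb35490c4004020b7504cfb7002001, 0x30801cfde021b7957fc02bee5765df00b005),
  (0xa9400e3b100397ec9020c2be811a1002001, 0x20803cebe011ae97efc02a9e7e67bf00b005),
  (0xd374005b81005ddf3b2af54df73f7f002001, 0x10803c97e0115a9eaf80255eea6e7f00b005),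
  (0xdd45d53001011551410f54115dd004403100, 0x30200ff6f014b9a5bbc20b675a957f032011),
  (0x2b24dbdb3001080e29020aa24d3fb7ab0e68, 0x3800ccfde005ba95ebc02bd656a5df083041),
  (0x10cdd7db3d7f39794c020a0b9045ac002001, 0xc830cfde101ae966fc029de66675f00b005),
  (0x10c400fc91003974b8dd47ff4f0004002001, 0xc803c7fe011ae996f3026de96657f00b005),
  (0xa371d5a099092b68485f4819a36004003809, 0xe5b0339d56ba6ff301c08df5e5e57f00e6ab),
  (0xab0d5cf01015cdf292aca36f624d3002001, 0x203022a6e014ef75fa80ce5e5fd56a00b005)]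

/-- The numbers of the target elements. -/
def tgts : List ℕ := [0, 1, 2, 3, 4, 5, 6, 7, 8, 9, 23]

/-- The bijection with the Hermitian space. -/
def toVecC : ℕ := 0x30803cf7e011ba95afc02b5e5a657f00b005

/-- Its inverse. -/
def ofVecC : ℕ := 0x2e528f5378a9f2cbbe09f4d659e5d704a5d6

/-- A short fixed vector over a root. -/
def rootVec : List ℤ := [-1, -1, -1, -1, -1, -1, 1, -1, 1, -1, -1, 1, -1, -1, -3, 1, -1, 1, -1, -1, 1, 1, -1, -1]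

/-- The basis, by positions. -/
def eT : List (List ℤ) := [
  [0, 1, -1, -1, 0, 1, -1, 0, 1, 1, 0, -1],
  [0, 1, -1, -1, 0, 1, -1, 0, 1, 1, 0, -1],
  [0, -1, 1, -1, 0, -1, 1, 0, 1, -1, 0, -1],
  [0, -1, 1, -1, 0, -1, 1, 0, 1, -1, 0, -1],
  [0, -1, -1, -1, 0, 1, -1, 0, -1, -1, 2, -1],
  [0, -1, 1, -1, 0, -1, 1, 0, 1, -1, 0, -1],
  [-2, -3, 3, 1, -2, 1, 3, 2, 1, -1, 0, -1],
  [0, -1, -1, 1, 0, -1, 1, 0, 1, 1, 0, -1],
  [-2, -1, -1, -1, -2, -1, -1, 0, -1, -1, 0, -1],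
  [0, -1, -1, -1, 0, 1, -1, 0, -1, -1, 2, -1],
  [0, -1, -1, 1, 0, -1, 1, 0, 1, 1, 0, -1],
  [2, 1, -1, -1, 2, -1, 1, -2, 3, 1, -2, -1],
  [0, -1, -1, -1, 0, 1, -1, 0, -1, -1, 2, -1],
  [0, -1, 1, -1, 0, -1, -1, 2, -1, -1, 0, -1],
  [-2, 1, 1, 1, 2, 3, 1, 2, -1, -1, -2, -1],
  [2, 1, 1, -3, -2, -1, -1, 0, 1, -1, 2, -1],
  [0, 1, -1, 1, 0, -1, -1, 2, 1, -1, -2, 3],
  [-2, -1, -1, 1, -2, 1, -1, -2, -1, -3, -2, -1],
  [0, -1, 1, -1, 0, -1, -1, 2, -1, -1, 0, -1],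
  [0, -1, 1, -1, 0, -1, -1, 2, -1, -1, 0, -1],
  [-2, -1, -1, -1, -2, -1, -1, 0, -1, -1, 0, -1],
  [-2, -1, -1, -1, -2, -1, -1, 0, -1, -1, 0, -1],
  [0, -1, -1, 1, 0, -1, 1, 0, 1, 1, 0, -1],
  [0, 1, -1, -1, 0, 1, -1, 0, 1, 1, 0, -1]]

/-- The class of that vector. -/
def rootIdx : ℕ := 2598

/-- Relations among the base points for the element fixing six points. -/
def relSix : List (List (ℕ × ℕ × ℕ × ℕ)) := [[], [], [(0, 1, 1, 9438197900198597395393065446969057)], [(1, 1, 2, 9438197900198597395393065446969057), (2, 1, 0, 9438197900198597395393065446969057)], [], [(3, 1, 4, 9438197900198597395393065446969057)], [(4, 1, 5, 9438197900198597395393065446969057), (5, 1, 3, 9438197900198597395393065446969057)], []]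

/-- Relations among the base points for the element fixing no points. -/
def relZero : List (List (ℕ × ℕ × ℕ × ℕ)) := [[], [], [(0, 1, 1, 18607102081577450094927251224268513)], [(1, 1, 2, 18607102081577450094927251224268513), (2, 1, 0, 18607102081577450094927251224268513)], [], [(3, 1, 4, 18607102081577450094927251224268513)], [], [(4, 1, 6, 18607102081577450094927251224268513), (6, 1, 3, 18607102081577450094927251224268513)]]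

end Cfsg.Agent.MonsterCent.ThreeSix
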